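import Groth.Agent.L07.Equidim
import Groth.Agent.L07.ChevalleyPoint
import Groth.Agent.L07.UnivOpenAt
import Groth.Agent.L19.Closure
import Groth.Agent.S4447
import Mathlib.RingTheory.Valuation.ValuationRing
import Mathlib.Algebra.GCDMonoid.IntegrallyClosed
import Groth.Agent.S12442

/-!
# Universal openness of quasi-finite maps to affine space (EGA IV 14.5)
-/

set_option autoImplicit false
set_option maxSynthPendingDepth 3
set_option linter.style.haveILetI false
set_option backward.isDefEq.respectTransparency.types false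
set_option backward.isDefEq.respectTransparency false

universe u

open CategoryTheory CategoryTheory.Limits AlgebraicGeometry TopologicalSpace Topology

noncomputable section

namespace Groth.L25.EGA145

theorem exists_dvd_all {V : Type u} [CommRing V] [IsDomain V] [ValuationRing V] {ι : Type*} (s : Finset ι)
    (c : ι → V) (hs : s.Nonempty) : ∃ i ∈ s, ∀ j ∈ s, c i ∣ c j := by
  induction hs using Finset.Nonempty.cons_induction with
  | singleton a => exact ⟨a, Finset.mem_singleton_self a, fun j hj => (Finset.mem_singleton.1 hj) ▸ dvd_rfl⟩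
  | cons a t ha ht ih =>
    obtain ⟨i, hi, h⟩ := ih
    rcases ValuationRing.dvd_total (c a) (c i) with h' | h'
    · refine ⟨a, Finset.mem_cons_self a t, fun j hj => ?_⟩
      rcases Finset.mem_cons.1 hj with rfl | hj
      · exact dvd_rfl
      · exact h'.trans (h j hj)
    · refine ⟨i, Finset.mem_cons.2 (Or.inr hi), fun j hj => ?_⟩
      rcases Finset.mem_cons.1 hj with rfl | hj
      · exact h'
      · exact h j hj

/-- Over a valuation ring the generic point is the only point of the generic fibre of affine space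
generalizing the generic point of the special fibre. -/
theorem eq_bot_of_le {V : Type u} [CommRing V] [IsDomain V] [ValuationRing V] {E : Type u}
    (P : Ideal (MvPolynomial E V)) [P.IsPrime] (hP : P.comap MvPolynomial.C = ⊥)
    (hle : ∀ p ∈ P, ∀ i, MvPolynomial.coeff i p ∈ IsLocalRing.maximalIdeal V) : P = ⊥ := by
  classical
  rw [eq_bot_iff]
  intro p hp
  by_contra hne
  have hs : p.support.Nonempty := MvPolynomial.support_nonempty.2 hne
  obtain ⟨i, hi, hdvd⟩ := exists_dvd_all p.support (fun j => MvPolynomial.coeff j p) hs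
  have hci : MvPolynomial.coeff i p ≠ 0 := MvPolynomial.mem_support_iff.1 hi
  obtain ⟨q, hq⟩ : MvPolynomial.C (MvPolynomial.coeff i p) ∣ p := by
    rw [MvPolynomial.C_dvd_iff_dvd_coeff]
    intro j
    by_cases hj : j ∈ p.support
    · exact hdvd j hj
    · rw [MvPolynomial.notMem_support_iff.1 hj]
      exact dvd_zero _
  have hqP : q ∈ P := by
    refine (Ideal.IsPrime.mem_or_mem ‹P.IsPrime› (hq ▸ hp)).resolve_left fun h => hci ?_
    have h' : MvPolynomial.coeff i p ∈ P.comap MvPolynomial.C := h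
    rwa [hP, Ideal.mem_bot] at h'
  have h1 : MvPolynomial.coeff i q = 1 := by
    have h2 := congrArg (MvPolynomial.coeff i) hq
    rw [MvPolynomial.coeff_C_mul] at h2
    exact mul_left_cancel₀ hci (h2.symm.trans (mul_one _).symm)
  exact (IsLocalRing.maximalIdeal.isMaximal V).ne_top ((Ideal.eq_top_iff_one _).2 (h1 ▸ hle q hqP i))

theorem coeff_mem_of_le {V : Type u} [CommRing V] [IsLocalRing V] {E : Type u} (G : PrimeSpectrum (MvPolynomial E V))
    (hG : ∀ q : PrimeSpectrum (MvPolynomial E V),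
      PrimeSpectrum.comap MvPolynomial.C q = IsLocalRing.closedPoint V → G.asIdeal ≤ q.asIdeal)
    {p : MvPolynomial E V} (hp : p ∈ G.asIdeal) (i : E →₀ ℕ) :
    MvPolynomial.coeff i p ∈ IsLocalRing.maximalIdeal V := by
  let π := MvPolynomial.map (σ := E) (IsLocalRing.residue V)
  haveI : (RingHom.ker π).IsPrime := RingHom.ker_isPrime π
  have hq : PrimeSpectrum.comap MvPolynomial.C ⟨RingHom.ker π, inferInstance⟩ = IsLocalRing.closedPoint V := by
    refine PrimeSpectrum.ext (Ideal.ext fun v => ?_)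
    show π (MvPolynomial.C v) = 0 ↔ v ∈ IsLocalRing.maximalIdeal V
    rw [MvPolynomial.map_C, MvPolynomial.C_eq_zero]
    exact Ideal.Quotient.eq_zero_iff_mem
  have h2 : π p = 0 := hG ⟨RingHom.ker π, inferInstance⟩ hq hp
  have h3 := congrArg (MvPolynomial.coeff i) h2
  rw [MvPolynomial.coeff_map, MvPolynomial.coeff_zero] at h3
  exact Ideal.Quotient.eq_zero_iff_mem.1 h3

theorem flat_to_field {A B : CommRingCat.{u}} (ψ : A ⟶ B) (hA : IsField A) : Flat (Spec.map ψ) := by
  rw [HasRingHomProperty.Spec_iff (P := @Flat)]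
  letI := hA.toField
  algebraize [ψ.hom]
  exact RingHom.flat_algebraMap_iff.2 inferInstance

variable {X S : Scheme.{u}} (f : X ⟶ S) [LocallyOfFinitePresentation f] {n : ℕ}
  (u : X ⟶ 𝔸(ULift.{u} (Fin n); S)) [LocallyQuasiFinite u] (hu : u ≫ (𝔸(ULift.{u} (Fin n); S) ↘ S) = f)

include hu in
theorem exists_lift (x z : X) (hzx : z ⤳ x) (hfz : f z = f x) (hopen : EGA43.IsUnivOpenAt f z)
    (hgen : ∀ q, (𝔸(ULift.{u} (Fin n); S) ↘ S) q = (𝔸(ULift.{u} (Fin n); S) ↘ S) (u z) → u z ⤳ q)
    {V : Type u} [CommRing V] [IsDomain V] [ValuationRing V]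
    (g : Spec (CommRingCat.of V) ⟶ 𝔸(ULift.{u} (Fin n); S))
    (x' : ↥(pullback u g)) (hx : pullback.fst u g x' = x) (hc : pullback.snd u g x' = IsLocalRing.closedPoint V) :
    ∃ w : ↥(pullback u g), w ⤳ x' ∧ pullback.snd u g w = (⟨⊥, Ideal.isPrime_bot⟩ : PrimeSpectrum V) := by
  let E := ULift.{u} (Fin n)
  let T := Spec (CommRingCat.of V)
  let c : T := IsLocalRing.closedPoint V
  let η : T := (⟨⊥, Ideal.isPrime_bot⟩ : PrimeSpectrum V)
  let pA := 𝔸(E; S) ↘ S
  let g0 := g ≫ pA
  let m := AffineSpace.map E g0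
  let pT := 𝔸(E; T) ↘ T
  have sqm : IsPullback m pT pA g0 := AffineSpace.isPullback_map g0
  let σ : T ⟶ 𝔸(E; T) := sqm.lift g (𝟙 T) (Category.id_comp _).symm
  have hσm : σ ≫ m = g := sqm.lift_fst _ _ _
  have hσp : σ ≫ pT = 𝟙 T := sqm.lift_snd _ _ _
  haveI : LocallyOfFiniteType (u ≫ pA) := hu ▸ inferInstance
  haveI : LocallyOfFiniteType u := locallyOfFiniteType_of_comp u pA
  let q := pullback.snd u m
  haveI : LocallyQuasiFinite q := MorphismProperty.pullback_snd _ _ inferInstance
  haveI : LocallyOfFiniteType q := MorphismProperty.pullback_snd _ _ inferInstance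
  have sqX : IsPullback (pullback.fst u m) (q ≫ pT) f g0 := by
    have := (IsPullback.of_hasPullback u m).paste_vert sqm
    rwa [hu] at this
  let j : pullback u g ⟶ pullback u m :=
    pullback.lift (pullback.fst u g) (pullback.snd u g ≫ σ) (by rw [Category.assoc, hσm, pullback.condition])
  have sqj : IsPullback j (pullback.snd u g) q σ := by
    refine IsPullback.of_right ?_ (pullback.lift_snd _ _ _) (IsPullback.of_hasPullback u m)
    rw [pullback.lift_fst, hσm]
    exact IsPullback.of_hasPullback u g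
  let x'' := j x'
  have hfx'' : pullback.fst u m x'' = x := by
    rw [← Scheme.Hom.comp_apply, pullback.lift_fst, hx]
  have hqx'' : q x'' = σ c := by
    rw [← Scheme.Hom.comp_apply, pullback.lift_snd, Scheme.Hom.comp_apply, hc]
  have hpσ : ∀ t, pT (σ t) = t := fun t => by
    rw [← Scheme.Hom.comp_apply, hσp]; rfl
  have hcx : (q ≫ pT) x'' = c := by rw [Scheme.Hom.comp_apply, hqx'', hpσ]
  have hfx : g0 c = f x := by
    rw [← hcx, ← Scheme.Hom.comp_apply, ← sqX.w, Scheme.Hom.comp_apply, hfx'']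
  obtain ⟨z'', hz''x, hz''z, hz''c⟩ : ∃ z'' : ↥(pullback u m), z'' ⤳ x'' ∧ pullback.fst u m z'' = z ∧
      (q ≫ pT) z'' = c := by
    let cι := T.fromSpecResidueField c
    let P := pullback (q ≫ pT) cι
    let ψ := Spec.map (g0.residueFieldMap c)
    have hψ : ψ ≫ S.fromSpecResidueField (g0 c) = cι ≫ g0 := Scheme.Hom.SpecMap_residueFieldMap_fromSpecResidueField _ _
    let F := pullback f (S.fromSpecResidueField (g0 c))
    let φ : P ⟶ F := pullback.lift (pullback.fst _ _ ≫ pullback.fst u m) (pullback.snd _ _ ≫ ψ)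
      (by rw [Category.assoc, sqX.w, pullback.condition_assoc, Category.assoc, hψ])
    have sqφ : IsPullback φ (pullback.snd _ _) (pullback.snd f (S.fromSpecResidueField (g0 c))) ψ := by
      refine IsPullback.of_right ?_ (pullback.lift_snd _ _ _) (IsPullback.of_hasPullback f _)
      rw [pullback.lift_fst, hψ]
      exact (IsPullback.of_hasPullback (q ≫ pT) cι).paste_horiz sqX
    haveI : Flat ψ := flat_to_field _ (Semifield.toIsField _)
    haveI : Flat φ := MorphismProperty.of_isPullback sqφ.flip ‹Flat ψ›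
    obtain ⟨p0, hp0⟩ : x'' ∈ Set.range (pullback.fst (q ≫ pT) cι) := by
      rw [Scheme.Pullback.range_fst, Scheme.range_fromSpecResidueField]
      exact hcx
    obtain ⟨cz, hcz⟩ : z ∈ Set.range (pullback.fst f (S.fromSpecResidueField (g0 c))) := by
      rw [Scheme.Pullback.range_fst, Scheme.range_fromSpecResidueField]
      exact hfz.trans hfx.symm
    have hφ0 : pullback.fst f (S.fromSpecResidueField (g0 c)) (φ p0) = x := by
      rw [← Scheme.Hom.comp_apply, pullback.lift_fst, Scheme.Hom.comp_apply, hp0, hfx'']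
    have hspec : cz ⤳ φ p0 := by
      rw [← (pullback.fst f (S.fromSpecResidueField (g0 c))).isEmbedding.isInducing.specializes_iff, hcz, hφ0]
      exact hzx
    obtain ⟨p1, hp1, hp1c⟩ := Flat.generalizingMap φ hspec
    refine ⟨pullback.fst (q ≫ pT) cι p1, hp0 ▸ hp1.map (pullback.fst (q ≫ pT) cι).continuous, ?_, ?_⟩
    · rw [← Scheme.Hom.comp_apply, ← pullback.lift_fst (pullback.fst (q ≫ pT) cι ≫ pullback.fst u m) (pullback.snd (q ≫ pT) cι ≫ ψ)
        (by rw [Category.assoc, sqX.w, pullback.condition_assoc, Category.assoc, hψ]), Scheme.Hom.comp_apply]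
      exact (congrArg _ hp1c).trans hcz
    · rw [← Scheme.Hom.comp_apply, pullback.condition, Scheme.Hom.comp_apply]
      exact Scheme.fromSpecResidueField_apply _ _
  let γ : ↥𝔸(E; T) := pT.fiberι c (genericPoint (pT.fiber c))
  have hγc : pT γ = c := Groth.L07.Equidim.apply_fiberι pT c _
  have hγgen : ∀ p, pT p = c → γ ⤳ p := fun p hp => by
    obtain ⟨d, rfl⟩ : p ∈ Set.range (pT.fiberι c) := by rw [pT.range_fiberι]; exact hp
    exact ((genericPoint_spec (pT.fiber c)).specializes trivial).map (pT.fiberι c).continuous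
  have hfuz : ∀ t, pA (u t) = f t := fun t => by
    rw [← Scheme.Hom.comp_apply]
    exact congrArg (fun φ : X ⟶ S => φ t) hu
  have hmγ : m γ = u z := by
    have hbase : pA (m γ) = pA (u z) := by
      rw [hfuz, hfz, ← hfx, ← hγc, ← Scheme.Hom.comp_apply, sqm.w, Scheme.Hom.comp_apply]
    refine Specializes.antisymm ?_ (hgen _ hbase) |>.eq
    obtain ⟨r, hr1, hr2⟩ := Scheme.Pullback.exists_preimage_pullback (f := pA) (g := g0) (u z) c
      (by rw [hfuz, hfz, hfx])
    let p := sqm.isoPullback.inv r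
    have hp1 : m p = u z := by
      rw [← hr1, ← Scheme.Hom.comp_apply, sqm.isoPullback_inv_fst]
    have hp2 : pT p = c := by
      rw [← hr2, ← Scheme.Hom.comp_apply, sqm.isoPullback_inv_snd]
    exact hp1 ▸ (hγgen p hp2).map m.continuous
  obtain ⟨w0, hw0x, hw0z, hw0γ⟩ : ∃ w0 : ↥(pullback u m), w0 ⤳ z'' ∧ pullback.fst u m w0 = z ∧ q w0 = γ := by
    let Q := pullback (pullback.fst u m) (X.fromSpecResidueField z)
    let ψ := Spec.map (u.residueFieldMap z)
    let ρ := 𝔸(E; S).fromSpecResidueField (u z)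
    have hψ : ψ ≫ ρ = X.fromSpecResidueField z ≫ u := Scheme.Hom.SpecMap_residueFieldMap_fromSpecResidueField _ _
    let R := pullback m ρ
    let Φ : Q ⟶ R := pullback.lift (pullback.fst _ _ ≫ q) (pullback.snd _ _ ≫ ψ)
      (by rw [Category.assoc, Category.assoc, hψ, ← pullback.condition, pullback.condition_assoc])
    have sqΦ : IsPullback Φ (pullback.snd _ _) (pullback.snd m ρ) ψ := by
      refine IsPullback.of_right ?_ (pullback.lift_snd _ _ _) (IsPullback.of_hasPullback m ρ)
      rw [pullback.lift_fst, hψ]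
      exact (IsPullback.of_hasPullback (pullback.fst u m) (X.fromSpecResidueField z)).paste_horiz
        (IsPullback.of_hasPullback u m).flip
    haveI : Flat ψ := flat_to_field _ (Semifield.toIsField _)
    haveI : Flat Φ := MorphismProperty.of_isPullback sqΦ.flip ‹Flat ψ›
    obtain ⟨q0, hq0⟩ : z'' ∈ Set.range (pullback.fst (pullback.fst u m) (X.fromSpecResidueField z)) := by
      rw [Scheme.Pullback.range_fst, Scheme.range_fromSpecResidueField]
      exact hz''z
    obtain ⟨γR, hγR⟩ : γ ∈ Set.range (pullback.fst m ρ) := by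
      rw [Scheme.Pullback.range_fst, Scheme.range_fromSpecResidueField]
      exact hmγ
    have hΦ0 : pullback.fst m ρ (Φ q0) = q z'' := by
      rw [← Scheme.Hom.comp_apply, pullback.lift_fst, Scheme.Hom.comp_apply, hq0]
    have hspec : γR ⤳ Φ q0 := by
      rw [← (pullback.fst m ρ).isEmbedding.isInducing.specializes_iff, hγR, hΦ0]
      exact hγgen _ (by rw [← Scheme.Hom.comp_apply]; exact hz''c)
    obtain ⟨q1, hq1, hq1γ⟩ := Flat.generalizingMap Φ hspec
    refine ⟨pullback.fst (pullback.fst u m) (X.fromSpecResidueField z) q1,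
      hq0 ▸ hq1.map (pullback.fst (pullback.fst u m) (X.fromSpecResidueField z)).continuous, ?_, ?_⟩
    · rw [← Scheme.Hom.comp_apply, pullback.condition, Scheme.Hom.comp_apply]
      exact Scheme.fromSpecResidueField_apply _ _
    · have e := congrArg (pullback.fst m ρ) hq1γ
      rw [hγR, ← Scheme.Hom.comp_apply, pullback.lift_fst, Scheme.Hom.comp_apply] at e
      exact e
  -- openness at `w0` gives a generalization over the generic point
  have hopen' : EGA43.IsOpenAt (q ≫ pT).base w0 := by
    intro U hU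
    have h := hopen T g0 (sqX.isoPullback.hom w0)
      (by rw [← Scheme.Hom.comp_apply, sqX.isoPullback_hom_fst]; exact hw0z)
      (sqX.isoPullback.inv ⁻¹' U) (sqX.isoPullback.inv.continuous.continuousAt.preimage_mem_nhds (by
        rw [← Scheme.Hom.comp_apply, Iso.hom_inv_id]; exact hU))
    rw [← Scheme.Hom.comp_apply, sqX.isoPullback_hom_snd] at h
    refine Filter.mem_of_superset h ?_
    rintro _ ⟨p, hp, rfl⟩
    exact ⟨sqX.isoPullback.inv p, hp, by rw [← Scheme.Hom.comp_apply, sqX.isoPullback_inv_snd]⟩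
  have hηc : η ⤳ c := (PrimeSpectrum.le_iff_specializes (R := V) _ _).mp bot_le
  let K := FractionRing V
  let ιη : Spec (CommRingCat.of K) ⟶ T := Spec.map (CommRingCat.ofHom (algebraMap V K))
  have hιη : ∀ k, ιη k = η := fun k => by
    refine PrimeSpectrum.ext ?_
    show Ideal.comap (algebraMap V K) (k : PrimeSpectrum K).asIdeal = ⊥
    rw [(IsSimpleOrder.eq_bot_or_eq_top (k : PrimeSpectrum K).asIdeal).resolve_right (k : PrimeSpectrum K).2.ne_top,
      ← RingHom.ker_eq_comap_bot]
    exact (RingHom.injective_iff_ker_eq_bot _).1 (IsFractionRing.injective V K)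
  obtain ⟨ζ, hζw, hζη⟩ : ∃ ζ, ζ ⤳ w0 ∧ (q ≫ pT) ζ = η := by
    have hcl : w0 ∈ closure (Set.range (pullback.fst (q ≫ pT) ιη)) := by
      rw [mem_closure_iff_nhds]
      intro U hU
      have h := hopen' U hU
      have hw0c : (q ≫ pT) w0 = c := by rw [Scheme.Hom.comp_apply, hw0γ, hγc]
      rw [hw0c] at h
      obtain ⟨p, hp, hpη⟩ : η ∈ (q ≫ pT).base '' U := mem_of_mem_nhds (hηc h)
      refine ⟨p, hp, ?_⟩
      rw [Scheme.Pullback.range_fst]
      exact ⟨(⟨⊥, Ideal.isPrime_bot⟩ : PrimeSpectrum K), (hιη _).trans hpη.symm⟩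
    haveI : QuasiCompact (pullback.fst (q ≫ pT) ιη) := MorphismProperty.pullback_fst _ _ inferInstance
    obtain ⟨k, hk⟩ := Groth.L19.exists_specializes_of_mem_closure_range (pullback.fst (q ≫ pT) ιη) hcl
    refine ⟨_, hk, ?_⟩
    rw [← Scheme.Hom.comp_apply, pullback.condition, Scheme.Hom.comp_apply]
    exact hιη _
  -- the affine model
  let e := AffineSpace.SpecIso E (CommRingCat.of V)
  let C' : Spec (CommRingCat.of (MvPolynomial E V)) ⟶ T := Spec.map (CommRingCat.ofHom MvPolynomial.C)
  have he : e.hom ≫ C' = pT := by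
    rw [← Iso.eq_inv_comp]
    exact (AffineSpace.SpecIso_inv_over (n := E) (CommRingCat.of V)).symm
  have heapp : ∀ a, C' (e.hom a) = pT a := fun a => by rw [← Scheme.Hom.comp_apply, he]
  have hebot : (e.hom (q ζ) : PrimeSpectrum (MvPolynomial E V)).asIdeal = ⊥ := by
    refine eq_bot_of_le _ ?_ fun p hp i => coeff_mem_of_le (e.hom γ) (fun r hr => ?_) ?_ i
    · have h := (heapp (q ζ)).trans hζη
      exact congrArg PrimeSpectrum.asIdeal h
    · obtain ⟨a, rfl⟩ : r ∈ Set.range e.hom := ⟨e.inv r, by rw [← Scheme.Hom.comp_apply, e.inv_hom_id]; rfl⟩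
      refine (PrimeSpectrum.le_iff_specializes (R := MvPolynomial E V) _ _).mpr ((hγgen a ?_).map e.hom.continuous)
      rw [← heapp]
      exact hr
    · exact (PrimeSpectrum.le_iff_specializes (R := MvPolynomial E V) _ _).mpr
        ((hw0γ ▸ hζw.map q.continuous).map e.hom.continuous) hp
  haveI : IsIntegrallyClosed (MvPolynomial E V) := by
    haveI : IsIntegrallyClosed V := by
      classical
      letI := IsBezout.toGCDDomain V
      exact GCDMonoid.toIsIntegrallyClosed
    haveI := Groth.L07.Chevalley.isIntegrallyClosed_mvPolynomial V n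
    exact IsIntegrallyClosed.of_equiv (MvPolynomial.renameEquiv V Equiv.ulift.symm).toRingEquiv
  obtain ⟨w', hw'x, hw'⟩ := Groth.L07.Chevalley.exists_lift_normal (q ≫ e.hom) (u := x'') (ζ := ζ)
    ((hζw.trans hw0x).trans hz''x) (by rw [Scheme.Hom.comp_apply]; exact hebot) (t := e.hom (σ η))
    (by rw [Scheme.Hom.comp_apply, hqx'']; exact (hηc.map σ.continuous).map e.hom.continuous)
  have hqw : q w' = σ η := by
    refine e.hom.isOpenEmbedding.injective ?_
    rw [← hw', Scheme.Hom.comp_apply]
  obtain ⟨r, hr1, hr2⟩ := Scheme.Pullback.exists_preimage_pullback (f := q) (g := σ) w' η hqw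
  refine ⟨sqj.isoPullback.inv r, ?_, ?_⟩
  · haveI : IsPreimmersion σ := by
      haveI : IsClosedImmersion (σ ≫ pT) := by rw [hσp]; infer_instance
      haveI : IsClosedImmersion σ := IsClosedImmersion.of_comp σ pT
      infer_instance
    haveI : IsPreimmersion j := MorphismProperty.of_isPullback (P := @IsPreimmersion) sqj.flip inferInstance
    rw [← j.isEmbedding.isInducing.specializes_iff, ← Scheme.Hom.comp_apply, sqj.isoPullback_inv_fst, hr1]
    exact hw'x
  · rw [← Scheme.Hom.comp_apply, sqj.isoPullback_inv_snd]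
    exact hr2

include hu in
theorem isUnivOpenAt (x z : X) (hzx : z ⤳ x) (hfz : f z = f x) (hopen : EGA43.IsUnivOpenAt f z)
    (hgen : ∀ q, (𝔸(ULift.{u} (Fin n); S) ↘ S) q = (𝔸(ULift.{u} (Fin n); S) ↘ S) (u z) → u z ⤳ q) :
    EGA43.IsUnivOpenAt u x := by
  haveI : LocallyOfFinitePresentation u := by
    haveI : LocallyOfFinitePresentation (u ≫ (𝔸(ULift.{u} (Fin n); S) ↘ S)) := hu ▸ inferInstance
    exact Groth.Agent.S12442.result u (𝔸(ULift.{u} (Fin n); S) ↘ S)
  intro Y' g' x' hx'
  refine Groth.L07.UnivOpenAt.isOpenAt_of_lfp _ _ fun U hU y1 hy1 => ?_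
  by_cases hy : y1 = (pullback.snd u g').base x'
  · exact ⟨x', mem_of_mem_nhds hU, hy.symm⟩
  obtain ⟨V, h, -, hclosed, hgenV⟩ := Groth.Agent.S4447.result (𝟙 Y') y1 _ hy1 (fun e => hy e.symm)
  have hbot : h.base (⟨⊥, Ideal.isPrime_bot⟩ : PrimeSpectrum V) = y1 := by
    rw [Category.comp_id] at hgenV
    let k0 : Spec (Y'.residueField y1) := IsLocalRing.closedPoint (Y'.residueField y1)
    have e : Spec.map (CommRingCat.ofHom V.subtype) k0 = (⟨⊥, Ideal.isPrime_bot⟩ : PrimeSpectrum V) := by
      refine PrimeSpectrum.ext ?_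
      show Ideal.comap V.subtype (IsLocalRing.maximalIdeal (Y'.residueField y1)) = ⊥
      rw [IsLocalRing.maximalIdeal_eq_bot]
      exact Ideal.comap_bot_of_injective _ Subtype.val_injective
    have hk : h (Spec.map (CommRingCat.ofHom V.subtype) k0) = y1 := by
      rw [← Scheme.Hom.comp_apply]
      exact (congrArg (fun φ => φ k0) hgenV).trans (Scheme.fromSpecResidueField_apply _ _)
    rw [e] at hk
    exact hk
  obtain ⟨p, hp1, hp2⟩ := Scheme.Pullback.exists_preimage_pullback (f := pullback.snd u g') (g := h) x'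
    (IsLocalRing.closedPoint V) hclosed.symm
  have sq : IsPullback (pullback.fst (pullback.snd u g') h ≫ pullback.fst u g') (pullback.snd (pullback.snd u g') h)
      u (h ≫ g') := (IsPullback.of_hasPullback (pullback.snd u g') h).paste_horiz (IsPullback.of_hasPullback u g')
  obtain ⟨w, hw, hw2⟩ := exists_lift f u hu x z hzx hfz hopen hgen (V := V) (h ≫ g') (sq.isoPullback.hom p)
    (by rw [← Scheme.Hom.comp_apply, sq.isoPullback_hom_fst, Scheme.Hom.comp_apply, hp1, hx'])
    (by rw [← Scheme.Hom.comp_apply, sq.isoPullback_hom_snd, hp2])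
  let w0 := sq.isoPullback.inv w
  have hw0 : w0 ⤳ p := by
    have := hw.map sq.isoPullback.inv.continuous
    rwa [← Scheme.Hom.comp_apply, Iso.hom_inv_id] at this
  refine ⟨pullback.fst (pullback.snd u g') h w0,
    (hp1 ▸ hw0.map (pullback.fst (pullback.snd u g') h).continuous) hU |> mem_of_mem_nhds, ?_⟩
  rw [← Scheme.Hom.comp_apply, pullback.condition, Scheme.Hom.comp_apply]
  show h.base ((sq.isoPullback.inv ≫ pullback.snd (pullback.snd u g') h) w) = y1
  rw [sq.isoPullback_inv_snd, hw2, hbot]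

end Groth.L25.EGA145
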