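import Groth.Agent.L25.EGA145.Open
import Groth.Agent.L07.QuasiSection
import Groth.Agent.L07.EquidimCrit
import Groth.Agent.L07.SectionCompOpen
import Groth.Agent.S1353
import Groth.Agent.L23.LocalDimEtale

/-!
# Quasi-sections through closed points of fibres (EGA IV 14.5.3, étale form)
-/

set_option autoImplicit false
set_option maxSynthPendingDepth 3
set_option linter.style.haveILetI false
set_option backward.isDefEq.respectTransparency.types false
set_option backward.isDefEq.respectTransparency false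

universe u

open CategoryTheory CategoryTheory.Limits AlgebraicGeometry TopologicalSpace Topology

noncomputable section

namespace Groth.L25.EGA145

variable {E : Type u}

/-- A triangular change of coordinates with unit leading coefficients is finite. -/
theorem finite_aeval_triangular {A : Type u} [CommRing A] [Fintype E] (c : E → A) (hc : ∀ i, IsUnit (c i))
    (m : E → ℕ) (hm : ∀ i, m i ≠ 0) (a : ∀ i, Fin (m i) → A) :
    (MvPolynomial.aeval (R := A) fun i => MvPolynomial.C (c i) * MvPolynomial.X i ^ (m i) +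
      ∑ k : Fin (m i), MvPolynomial.C (a i k) * MvPolynomial.X i ^ (k : ℕ) :
        MvPolynomial E A →ₐ[A] MvPolynomial E A).toRingHom.Finite := by
  classical
  let P : E → MvPolynomial E A := fun i => MvPolynomial.C (c i) * MvPolynomial.X i ^ (m i) +
    ∑ k : Fin (m i), MvPolynomial.C (a i k) * MvPolynomial.X i ^ (k : ℕ)
  let θ : MvPolynomial E A →+* MvPolynomial E A := (MvPolynomial.aeval (R := A) P).toRingHom
  have hθC : ∀ r, θ (MvPolynomial.C r) = MvPolynomial.C r := fun r => MvPolynomial.aeval_C P r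
  have hθX : ∀ i, θ (MvPolynomial.X i) = P i := fun i => MvPolynomial.aeval_X P i
  show θ.Finite
  have hint : ∀ i, θ.IsIntegralElem (MvPolynomial.X i) := fun i => by
    obtain ⟨v, hv⟩ := hc i
    let S0 : Polynomial (MvPolynomial E A) := ∑ k : Fin (m i),
      Polynomial.C (MvPolynomial.C ((↑v⁻¹ : A) * a i k)) * Polynomial.X ^ (k : ℕ) -
        Polynomial.C (MvPolynomial.C (↑v⁻¹ : A) * MvPolynomial.X i)
    have hdeg : S0.degree < (m i : WithBot ℕ) := by
      refine (Polynomial.degree_sub_le _ _).trans_lt (max_lt ?_ ?_)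
      · refine (Polynomial.degree_sum_le _ _).trans_lt ((Finset.sup_lt_iff (WithBot.bot_lt_coe _)).2 fun k _ => ?_)
        exact (Polynomial.degree_C_mul_X_pow_le _ _).trans_lt (WithBot.coe_lt_coe.2 k.2)
      · exact Polynomial.degree_C_le.trans_lt (WithBot.coe_lt_coe.2 (Nat.pos_of_ne_zero (hm i)))
    refine ⟨Polynomial.X ^ (m i) + S0, Polynomial.monic_X_pow_add hdeg, ?_⟩
    have hvv : (MvPolynomial.C (↑v⁻¹ : A) : MvPolynomial E A) * MvPolynomial.C (c i) = 1 := by
      rw [← map_mul, ← hv, Units.inv_mul, map_one]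
    simp only [S0, Polynomial.eval₂_add, Polynomial.eval₂_sub, Polynomial.eval₂_finsetSum, Polynomial.eval₂_mul,
      Polynomial.eval₂_C, Polynomial.eval₂_X_pow, map_mul, hθC, hθX]
    simp only [P, mul_add, Finset.mul_sum]
    rw [← mul_assoc, hvv, one_mul]
    simp only [mul_assoc]
    abel
  have hft : θ.FiniteType := by
    refine RingHom.FiniteType.of_comp_finiteType (f := MvPolynomial.C) ?_
    rw [show θ.comp MvPolynomial.C = MvPolynomial.C from RingHom.ext hθC]
    exact RingHom.finiteType_algebraMap.mpr (inferInstanceAs (Algebra.FiniteType A (MvPolynomial E A)))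
  refine RingHom.IsIntegral.to_finite (fun p => ?_) hft
  induction p using MvPolynomial.induction_on with
  | C r => rw [← hθC r]; exact θ.isIntegralElem_map
  | add p q hp hq => exact RingHom.IsIntegralElem.add θ hp hq
  | mul_X p i hp => exact RingHom.IsIntegralElem.mul θ hp (hint i)

/-- Adjust a quasi-finite map to affine space so that the given closed point of the fibre goes to the origin. -/
theorem exists_qf_zero {R B : Type u} [CommRing R] [CommRing B] [Algebra R B] [Algebra.FiniteType R B] [Fintype E]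
    (χ : MvPolynomial E R →+* B) (hC : χ.comp MvPolynomial.C = algebraMap R B) (hχ : χ.QuasiFinite)
    (q : Ideal B) [q.IsPrime]
    (hmax : ∀ q' : Ideal B, q'.IsPrime → q ≤ q' → q'.comap (algebraMap R B) = q.comap (algebraMap R B) → q' = q) :
    ∃ (c : R) (b : E → B), algebraMap R B c ∉ q ∧ (∀ i, b i ∈ q) ∧
      ((algebraMap B (Localization.Away (algebraMap R B c))).comp
        (MvPolynomial.eval₂Hom (algebraMap R B) b)).QuasiFinite := by
  classical
  choose c m a hc hrel using fun i : E => Groth.L07.QuasiSection.exists_relation q hmax (χ (MvPolynomial.X i))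
  let C0 : R := ∏ i, c i
  let b : E → B := fun i =>
    algebraMap R B (c i) * χ (MvPolynomial.X i) ^ (m i) + ∑ k : Fin (m i), algebraMap R B (a i k) * χ (MvPolynomial.X i) ^ (k : ℕ)
  refine ⟨C0, b, ?_, hrel, ?_⟩
  · rw [map_prod, Ideal.IsPrime.prod_mem_iff]
    push Not
    exact fun i _ => hc i
  have hm : ∀ i, m i ≠ 0 := fun i hm0 => by
    refine hc i ?_
    have hr := hrel i
    have he : (∑ k : Fin (m i), algebraMap R B (a i k) * χ (MvPolynomial.X i) ^ (k : ℕ)) = 0 :=
      Finset.sum_eq_zero fun k _ => absurd k.2 (by omega)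
    rw [he, add_zero] at hr
    rwa [hm0, pow_zero, mul_one] at hr
  let Rc := Localization.Away C0
  let T := Localization.Away (algebraMap R B C0)
  let ρ : Rc →+* T := IsLocalization.Away.lift C0 (g := (algebraMap B T).comp (algebraMap R B))
    (IsLocalization.Away.algebraMap_isUnit (algebraMap R B C0))
  have hρ : ∀ r, ρ (algebraMap R Rc r) = algebraMap B T (algebraMap R B r) := fun r =>
    IsLocalization.Away.lift_eq C0 _ r
  let π : MvPolynomial E R →+* MvPolynomial E Rc := MvPolynomial.map (algebraMap R Rc)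
  have hπC : ∀ r, π (MvPolynomial.C r) = MvPolynomial.C (algebraMap R Rc r) := fun r => MvPolynomial.map_C _ r
  have hπX : ∀ i, π (MvPolynomial.X i) = MvPolynomial.X i := fun i => MvPolynomial.map_X _ i
  let χ' : MvPolynomial E Rc →+* T := MvPolynomial.eval₂Hom ρ fun i => algebraMap B T (χ (MvPolynomial.X i))
  have hχC : ∀ r, χ' (MvPolynomial.C r) = ρ r := fun r => MvPolynomial.eval₂Hom_C _ _ r
  have hχX : ∀ i, χ' (MvPolynomial.X i) = algebraMap B T (χ (MvPolynomial.X i)) := fun i =>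
    MvPolynomial.eval₂Hom_X' _ _ i
  have hχ'π : χ'.comp π = (algebraMap B T).comp χ := by
    refine MvPolynomial.ringHom_ext (fun r => ?_) fun i => ?_
    · rw [RingHom.comp_apply, RingHom.comp_apply, hπC, hχC, hρ]
      exact congrArg (algebraMap B T) (RingHom.congr_fun hC r).symm
    · rw [RingHom.comp_apply, RingHom.comp_apply, hπX, hχX]
  have hπ : π.QuasiFinite := by
    letI := π.toAlgebra
    haveI : IsLocalization.Away (MvPolynomial.C C0 : MvPolynomial E R) (MvPolynomial E Rc) := by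
      have h := MvPolynomial.isLocalization (σ := E) (Submonoid.powers C0) Rc
      rw [Submonoid.map_powers] at h
      exact h
    haveI : Algebra.QuasiFinite (MvPolynomial E R) (MvPolynomial E R) := inferInstance
    exact RingHom.quasiFinite_algebraMap.mpr
      (Algebra.QuasiFinite.of_isLocalization (R := MvPolynomial E R) (S := MvPolynomial E R)
        (Submonoid.powers (MvPolynomial.C C0 : MvPolynomial E R)))
  have hχ' : χ'.QuasiFinite := by
    have h1 : ((algebraMap B T).comp χ).QuasiFinite := by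
      refine RingHom.QuasiFinite.comp ?_ hχ
      refine RingHom.quasiFinite_algebraMap.mpr ?_
      haveI : Algebra.QuasiFinite B B := inferInstance
      exact Algebra.QuasiFinite.of_isLocalization (R := B) (S := B) (Submonoid.powers (algebraMap R B C0))
    rw [← hχ'π] at h1
    exact RingHom.QuasiFinite.of_comp h1
  -- the finite change of coordinates
  have hu : ∀ i, IsUnit (algebraMap R Rc (c i)) := fun i =>
    isUnit_of_dvd_unit (map_dvd _ (Finset.dvd_prod_of_mem c (Finset.mem_univ i)))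
      (IsLocalization.Away.algebraMap_isUnit C0)
  let P : E → MvPolynomial E Rc := fun i => MvPolynomial.C (algebraMap R Rc (c i)) * MvPolynomial.X i ^ (m i) +
    ∑ k : Fin (m i), MvPolynomial.C (algebraMap R Rc (a i k)) * MvPolynomial.X i ^ (k : ℕ)
  let θ : MvPolynomial E Rc →+* MvPolynomial E Rc := (MvPolynomial.aeval (R := Rc) P).toRingHom
  have hθ : θ.Finite := finite_aeval_triangular _ hu m hm _
  have hθC : ∀ r, θ (MvPolynomial.C r) = MvPolynomial.C r := fun r => MvPolynomial.aeval_C P r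
  have hθX : ∀ i, θ (MvPolynomial.X i) = P i := fun i => MvPolynomial.aeval_X P i
  have heq : (algebraMap B T).comp (MvPolynomial.eval₂Hom (algebraMap R B) b) = χ'.comp (θ.comp π) := by
    refine MvPolynomial.ringHom_ext (fun r => ?_) fun i => ?_
    · rw [RingHom.comp_apply, MvPolynomial.eval₂Hom_C, RingHom.comp_apply, RingHom.comp_apply, hπC, hθC, hχC, hρ]
    · rw [RingHom.comp_apply, MvPolynomial.eval₂Hom_X', RingHom.comp_apply, RingHom.comp_apply, hπX, hθX]
      simp only [P, b, map_add, map_mul, map_pow, map_sum, hχC, hχX, hρ]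
  rw [heq]
  exact hχ'.comp ((RingHom.QuasiFinite.of_finite hθ).comp hπ)

theorem comap_eq_of_zero {R B : Type u} [CommRing R] [CommRing B] (ψ : MvPolynomial E R →+* B)
    (q : Ideal B) (hq : ∀ i, ψ (MvPolynomial.X i) ∈ q) :
    q.comap ψ = (q.comap (ψ.comp MvPolynomial.C)).comap (MvPolynomial.eval fun _ => (0 : R)) := by
  have h : (Ideal.Quotient.mk q).comp ψ =
      ((Ideal.Quotient.mk q).comp (ψ.comp MvPolynomial.C)).comp (MvPolynomial.eval fun _ => (0 : R)) := by
    refine MvPolynomial.ringHom_ext (fun r => ?_) fun i => ?_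
    · simp
    · simp [Ideal.Quotient.eq_zero_iff_mem, hq i]
  ext p
  rw [Ideal.mem_comap, Ideal.mem_comap, Ideal.mem_comap, ← Ideal.Quotient.eq_zero_iff_mem,
    ← Ideal.Quotient.eq_zero_iff_mem]
  exact Eq.congr_left (RingHom.congr_fun h p)

variable {X S : Scheme.{u}}

/-- A quasi-finite map of a neighbourhood of a closed point of a fibre to affine space, sending it to the origin. -/
theorem exists_qf_origin (f : X ⟶ S) [LocallyOfFiniteType f] (x : X)
    (hcl : ∀ x' : X, f x' = f x → x ⤳ x' → x' = x) (n : ℕ) (U1 : X.Opens) (hxU1 : x ∈ U1)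
    (hU1 : topologicalKrullDim ((U1 : Set X) ∩ f ⁻¹' {f x} : Set X) ≤ (n : WithBot ℕ∞)) :
    ∃ (X0 : Scheme.{u}) (ι : X0 ⟶ X) (_ : IsOpenImmersion ι) (x0 : X0)
      (u : X0 ⟶ 𝔸(ULift.{u} (Fin n); S)) (V : Scheme.{u}) (σ : V ⟶ 𝔸(ULift.{u} (Fin n); S)) (r0 : V),
      ι x0 = x ∧ LocallyQuasiFinite u ∧ u ≫ (𝔸(ULift.{u} (Fin n); S) ↘ S) = ι ≫ f ∧
      IsImmersion σ ∧ IsOpenImmersion (σ ≫ (𝔸(ULift.{u} (Fin n); S) ↘ S)) ∧ σ r0 = u x0 := by
  classical
  let E := ULift.{u} (Fin n)
  obtain ⟨D, g, hxD, -, hg, hqf⟩ := Groth.L07.Equidim.exists_qf_affineSpace f U1 x hxU1 n hU1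
  haveI := hqf
  obtain ⟨V, hV, hyV, -⟩ := exists_isAffineOpen_mem_and_subset (TopologicalSpace.Opens.mem_top (f x))
  obtain ⟨W, hW, hxW, hWD⟩ := exists_isAffineOpen_mem_and_subset (show x ∈ D ⊓ f ⁻¹ᵁ V from ⟨hxD, hyV⟩)
  have hWV : W ≤ f ⁻¹ᵁ V := fun w hw => (hWD hw).2
  have hWD' : W ≤ D := fun w hw => (hWD hw).1
  letI : Algebra Γ(S, V) Γ(X, W) := (f.appLE V W hWV).hom.toAlgebra
  haveI : Algebra.FiniteType Γ(S, V) Γ(X, W) := f.finiteType_appLE hV hW hWV
  have hsq : Spec.map (f.appLE V W hWV) ≫ hV.fromSpec = hW.fromSpec ≫ f := hV.SpecMap_appLE_fromSpec f hW hWV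
  have bot := AffineSpace.isPullback_map (n := E) hV.fromSpec
  let gW : Spec Γ(X, W) ⟶ 𝔸(E; S) := (hW.isoSpec.inv ≫ X.homOfLE hWD') ≫ g
  have hgW : gW ≫ (𝔸(E; S) ↘ S) = hW.fromSpec ≫ f := by
    rw [Category.assoc, hg, Category.assoc, Scheme.homOfLE_ι_assoc, IsAffineOpen.isoSpec_inv_ι_assoc]
  let h := bot.lift gW (Spec.map (f.appLE V W hWV)) (by rw [hgW, hsq])
  let SI := AffineSpace.SpecIso E Γ(S, V)
  obtain ⟨φ', hφ'⟩ := Spec.map_surjective (h ≫ SI.hom)
  let φ : MvPolynomial E Γ(S, V) →+* Γ(X, W) := φ'.hom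
  have hinv : (h ≫ SI.hom) ≫ SI.inv = h := by
    rw [Category.assoc, Iso.hom_inv_id, Category.comp_id]
  have hφC : φ.comp MvPolynomial.C = algebraMap Γ(S, V) Γ(X, W) := by
    have h1 : Spec.map (CommRingCat.ofHom MvPolynomial.C ≫ φ') = Spec.map (f.appLE V W hWV) := by
      rw [Spec.map_comp, hφ', ← AffineSpace.SpecIso_inv_over, ← Category.assoc, hinv]
      exact bot.lift_snd _ _ _
    exact congrArg CommRingCat.Hom.hom (Spec.map_injective h1)
  let m := AffineSpace.map E hV.fromSpec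
  haveI : IsOpenImmersion m := MorphismProperty.of_isPullback (P := @IsOpenImmersion) bot.flip inferInstance
  have hhm : h ≫ m = gW := bot.lift_fst _ _ _
  haveI : LocallyQuasiFinite (X.homOfLE hWD') := inferInstance
  haveI : LocallyQuasiFinite gW := inferInstance
  haveI : LocallyQuasiFinite (h ≫ m) := hhm ▸ inferInstance
  haveI : LocallyQuasiFinite h := LocallyQuasiFinite.of_comp h m
  have hφqf : φ.QuasiFinite := by
    haveI : LocallyQuasiFinite (Spec.map φ') := hφ' ▸ inferInstance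
    exact (HasRingHomProperty.Spec_iff (P := @LocallyQuasiFinite)).mp inferInstance
  let q := hW.primeIdealOf ⟨x, hxW⟩
  have hq : hW.fromSpec q = x := hW.fromSpec_primeIdealOf ⟨x, hxW⟩
  haveI := q.2
  have hbase : ∀ (a : Spec Γ(X, W)), f (hW.fromSpec a) = hV.fromSpec (Spec.map (f.appLE V W hWV) a) := fun a => by
    rw [← Scheme.Hom.comp_apply, ← hsq, Scheme.Hom.comp_apply]
  have hmax : ∀ q' : Ideal Γ(X, W), q'.IsPrime → q.asIdeal ≤ q' →
      q'.comap (algebraMap Γ(S, V) Γ(X, W)) = q.asIdeal.comap (algebraMap Γ(S, V) Γ(X, W)) → q' = q.asIdeal := by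
    intro q' hq' hqq' ho
    let q'' : Spec Γ(X, W) := (⟨q', hq'⟩ : PrimeSpectrum _)
    have e1 : f (hW.fromSpec q'') = f x := by
      rw [← hq, hbase, hbase]
      exact congrArg hV.fromSpec (PrimeSpectrum.ext ho)
    have e2 : q'' = q := hW.fromSpec.isOpenEmbedding.injective (by
      rw [hq]
      refine hcl _ e1 ?_
      rw [← hq]
      exact ((PrimeSpectrum.le_iff_specializes q ⟨q', hq'⟩).mp hqq').map hW.fromSpec.continuous)
    exact congrArg PrimeSpectrum.asIdeal e2
  obtain ⟨c, b, hc, hb, hqfb⟩ := exists_qf_zero φ hφC hφqf q.asIdeal hmax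
  let T := Localization.Away (algebraMap Γ(S, V) Γ(X, W) c)
  let ψ : MvPolynomial E Γ(S, V) →+* T := (algebraMap Γ(X, W) T).comp (MvPolynomial.eval₂Hom (algebraMap _ _) b)
  have hψC : CommRingCat.ofHom MvPolynomial.C ≫ CommRingCat.ofHom ψ =
      f.appLE V W hWV ≫ CommRingCat.ofHom (algebraMap Γ(X, W) T) :=
    CommRingCat.hom_ext (RingHom.ext fun r => congrArg (algebraMap Γ(X, W) T) (MvPolynomial.eval₂Hom_C _ _ r))
  let k := SI.inv ≫ m
  have hk : k ≫ (𝔸(E; S) ↘ S) = Spec.map (CommRingCat.ofHom MvPolynomial.C) ≫ hV.fromSpec := by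
    simp only [k, m, SI, Category.assoc, AffineSpace.map_over, AffineSpace.SpecIso_inv_over_assoc]
  haveI : LocallyQuasiFinite (Spec.map (CommRingCat.ofHom ψ)) :=
    (HasRingHomProperty.Spec_iff (P := @LocallyQuasiFinite)).mpr hqfb
  let j := Spec.map (CommRingCat.ofHom (algebraMap Γ(X, W) T))
  haveI : IsOpenImmersion j := IsOpenImmersion.of_isLocalization (algebraMap Γ(S, V) Γ(X, W) c)
  obtain ⟨x0, hx0⟩ : q ∈ Set.range j := by
    show q ∈ Set.range (PrimeSpectrum.comap (algebraMap Γ(X, W) T))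
    rw [PrimeSpectrum.localization_away_comap_range T (algebraMap Γ(S, V) Γ(X, W) c)]
    exact hc
  let ev0 : MvPolynomial E Γ(S, V) →+* Γ(S, V) := MvPolynomial.eval fun _ => 0
  have hev : CommRingCat.ofHom MvPolynomial.C ≫ CommRingCat.ofHom ev0 = 𝟙 _ :=
    CommRingCat.hom_ext (RingHom.ext fun r => MvPolynomial.eval_C r)
  haveI : IsClosedImmersion (Spec.map (CommRingCat.ofHom ev0)) :=
    IsClosedImmersion.spec_of_surjective _ fun r => ⟨MvPolynomial.C r, MvPolynomial.eval_C r⟩
  let σ := Spec.map (CommRingCat.ofHom ev0) ≫ k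
  have hσ : σ ≫ (𝔸(E; S) ↘ S) = hV.fromSpec := by
    rw [Category.assoc, hk, ← Spec.map_comp_assoc, hev, Spec.map_id, Category.id_comp]
  refine ⟨Spec (CommRingCat.of T), j ≫ hW.fromSpec, inferInstance, x0, Spec.map (CommRingCat.ofHom ψ) ≫ k,
    Spec Γ(S, V), σ, Spec.map (CommRingCat.ofHom MvPolynomial.C) (Spec.map (CommRingCat.ofHom ψ) x0),
    by rw [Scheme.Hom.comp_apply, hx0]; exact hq, inferInstance, ?_, inferInstance, hσ ▸ inferInstance, ?_⟩
  · rw [Category.assoc, hk, ← Spec.map_comp_assoc, hψC, Spec.map_comp, Category.assoc, Category.assoc, hsq]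
  · simp only [σ, Scheme.Hom.comp_apply]
    refine congrArg k (PrimeSpectrum.ext ?_)
    show (((x0 : PrimeSpectrum T).asIdeal.comap ψ).comap MvPolynomial.C).comap ev0 = (x0 : PrimeSpectrum T).asIdeal.comap ψ
    rw [Ideal.comap_comap]
    refine (comap_eq_of_zero ψ _ fun i => ?_).symm
    have e : (x0 : PrimeSpectrum T).asIdeal.comap (algebraMap Γ(X, W) T) = q.asIdeal := congrArg PrimeSpectrum.asIdeal hx0
    show algebraMap Γ(X, W) T (MvPolynomial.eval₂Hom _ b (MvPolynomial.X i)) ∈ _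
    rw [MvPolynomial.eval₂Hom_X', ← Ideal.mem_comap, e]
    exact hb i

theorem bijective_residueFieldMap_of_isPreimmersion {A B : Scheme.{u}} (g : A ⟶ B) [IsPreimmersion g] (a : A) :
    Function.Bijective (g.residueFieldMap a) := by
  refine ⟨RingHom.injective (g.residueFieldMap a).hom, fun r => ?_⟩
  obtain ⟨t, rfl⟩ := A.residue_surjective a r
  obtain ⟨t', rfl⟩ := g.stalkMap_surjective a t
  exact ⟨B.residue (g a) t', (congrArg (fun φ => φ t') (Scheme.residue_residueFieldMap g a))⟩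

/-- Étale quasi-sections through a closed point of a fibre. -/
theorem exists_quasiSection (f : X ⟶ S) [LocallyOfFinitePresentation f] (x z : X) (hzx : z ⤳ x) (hfz : f z = f x)
    (hcl : ∀ x' : X, f x' = f x → x ⤳ x' → x' = x) (hopen : EGA43.IsUnivOpenAt f z) (n : ℕ)
    (hn : (n : WithBot ℕ∞) ≤ Groth.L07.Equidim.fdim f z) (U1 : X.Opens) (hxU1 : x ∈ U1)
    (hU1 : topologicalKrullDim ((U1 : Set X) ∩ f ⁻¹' {f x} : Set X) ≤ (n : WithBot ℕ∞)) :
    ∃ (S' S'' : Scheme.{u}) (_ : IsAffine S') (w : S' ⟶ S) (π : S'' ⟶ S') (h : S'' ⟶ X),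
      Etale w ∧ IsFinite π ∧ Surjective π ∧ LocallyOfFinitePresentation π ∧ h ≫ f = π ≫ w ∧
      ∃ s'' : S'', (π ≫ w).base ⁻¹' {f x} = {s''} ∧ h.base s'' = x ∧ IsIso (h.residueFieldMap s'') := by
  obtain ⟨X0, ι, _, x0, u, V, σ, r0, hx0, hqf, hu, hσi, hσo, hσr⟩ := exists_qf_origin f x hcl n U1 hxU1 hU1
  haveI := hqf
  haveI := hσi
  haveI := hσo
  let pA := 𝔸(ULift.{u} (Fin n); S) ↘ S
  obtain ⟨z0, hz0⟩ : z ∈ Set.range ι := hzx.mem_open ι.isOpenEmbedding.isOpen_range ⟨x0, hx0⟩
  haveI : LocallyOfFiniteType (u ≫ pA) := hu ▸ inferInstance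
  haveI : LocallyOfFiniteType u := locallyOfFiniteType_of_comp u pA
  haveI : LocallyOfFinitePresentation (u ≫ pA) := hu ▸ inferInstance
  haveI : LocallyOfFinitePresentation u := Groth.Agent.S12442.result u pA
  have huo : EGA43.IsUnivOpenAt u x0 := by
    refine isUnivOpenAt (ι ≫ f) u hu x0 z0 ?_ ?_ ?_ (Groth.L07.Equidim.genericPoint_of_fdim _ (u z0) ?_)
    · rw [← ι.isEmbedding.isInducing.specializes_iff, hz0, hx0]; exact hzx
    · rw [Scheme.Hom.comp_apply, Scheme.Hom.comp_apply, hz0, hx0, hfz]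
    · exact Groth.L07.UnivOpenAt.comp (Groth.L07.SectionComp.isUnivOpenAt_of_universallyOpen ι z0) (hz0 ▸ hopen)
    · rw [← Groth.L07.Equidim.fdim_comp u pA (ι ≫ f) hu z0, Groth.L07.Equidim.fdim_comp ι f (ι ≫ f) rfl z0, hz0,
        Nat.card_ulift, Nat.card_fin]
      exact hn
  obtain ⟨y0, hy0x, hy0r⟩ := Scheme.Pullback.exists_preimage_pullback (f := u) (g := σ) x0 r0 hσr.symm
  let Y0 := pullback u σ
  let p := pullback.snd u σ
  haveI : LocallyQuasiFinite p := MorphismProperty.pullback_snd _ _ inferInstance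
  haveI : LocallyOfFiniteType p := MorphismProperty.pullback_snd _ _ inferInstance
  haveI : LocallyOfFinitePresentation p := MorphismProperty.pullback_snd _ _ inferInstance
  obtain ⟨U, g, u0, hnb, O, v, hvO, hfin, hv2, huniq, hv1, hres⟩ :=
    Groth.Agent.S1353.result p y0 (p.quasiFiniteAt y0)
  haveI := hnb.etale
  haveI := hfin
  haveI : LocallyOfFinitePresentation (pullback.snd p g) := MorphismProperty.pullback_snd _ _ inferInstance
  let π0 := O.ι ≫ pullback.snd p g
  let a : pullback p g ⟶ X0 := pullback.fst p g ≫ pullback.fst u σ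
  have ha : a v = x0 := by rw [Scheme.Hom.comp_apply, hv1, hy0x]
  have sq : IsPullback a (pullback.snd p g) u (g ≫ σ) :=
    (IsPullback.of_hasPullback p g).paste_horiz (IsPullback.of_hasPullback u σ)
  have hop : EGA43.IsOpenAt (pullback.snd p g).base v := Groth.L07.UnivOpenAt.of_isPullback sq huo v ha
  have hnhds : (pullback.snd p g) '' (O : Set ↥(pullback p g)) ∈ 𝓝 u0 := hv2 ▸ hop _ (O.2.mem_nhds hvO)
  -- a neighbourhood meeting the fibre over the base point only once
  let w0 := g ≫ σ ≫ pA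
  haveI : Etale w0 := inferInstance
  haveI : LocallyQuasiFinite w0 := Groth.L23.lqf_of_etale w0
  have hw0 : w0 u0 = f x := by
    rw [Scheme.Hom.comp_apply, hnb.base_eq, show p y0 = r0 from hy0r, Scheme.Hom.comp_apply, hσr,
      ← Scheme.Hom.comp_apply, hu, Scheme.Hom.comp_apply, hx0]
  obtain ⟨N, hNo, hN⟩ : ∃ N : Set U, IsOpen N ∧ N ∩ w0 ⁻¹' {f x} = {u0} := by
    have hd := w0.isDiscrete_preimage_singleton (f x)
    obtain ⟨N, hNo, hN⟩ := (isDiscrete_iff_forall_mem_exists_isOpen.1 hd) u0 hw0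
    exact ⟨N, hNo, hN⟩
  have hu0N : u0 ∈ N := (hN.symm ▸ Set.mem_singleton u0 : u0 ∈ N ∩ w0 ⁻¹' {f x}).1
  obtain ⟨M, hMsub, hMo, hu0M⟩ := mem_nhds_iff.1 (Filter.inter_mem (hNo.mem_nhds hu0N) hnhds)
  obtain ⟨W', hW', hu0W', hW'M⟩ := exists_isAffineOpen_mem_and_subset (X := U) (x := u0) (U := ⟨M, hMo⟩) hu0M
  haveI : IsAffine (W' : Scheme.{u}) := hW'
  let π := π0 ∣_ W'
  haveI : IsFinite π := IsZariskiLocalAtTarget.restrict (P := @IsFinite) hfin W'
  have hπ : Surjective π := ⟨fun t => by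
    obtain ⟨e, heO, he⟩ := (hMsub (hW'M t.2)).2
    let b : (O : Scheme.{u}) := ⟨e, heO⟩
    have hb : π0 b = t.1 := by rw [Scheme.Hom.comp_apply]; exact he
    refine ⟨⟨b, show π0 b ∈ W' from hb.symm ▸ t.2⟩, Subtype.ext ?_⟩
    rw [morphismRestrict_base_coe]
    exact hb⟩
  let h0 : (π0 ⁻¹ᵁ W' : Scheme.{u}) ⟶ pullback p g := (π0 ⁻¹ᵁ W').ι ≫ O.ι
  let h : (π0 ⁻¹ᵁ W' : Scheme.{u}) ⟶ X := h0 ≫ a ≫ ι
  let w : (W' : Scheme.{u}) ⟶ S := W'.ι ≫ w0
  have hπw : π ≫ w = h0 ≫ pullback.snd p g ≫ w0 := by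
    simp only [π, w, h0, π0, morphismRestrict_ι_assoc, Category.assoc]
  have hv' : π0 (⟨v, hvO⟩ : (O : Scheme.{u})) = u0 := by rw [Scheme.Hom.comp_apply]; exact hv2
  let s'' : (π0 ⁻¹ᵁ W' : Scheme.{u}) := ⟨⟨v, hvO⟩, show π0 _ ∈ W' from hv'.symm ▸ hu0W'⟩
  have hs''v : h0 s'' = v := rfl
  refine ⟨W', π0 ⁻¹ᵁ W', inferInstance, w, π, h, inferInstance, inferInstance, hπ,
    IsZariskiLocalAtTarget.restrict (P := @LocallyOfFinitePresentation) inferInstance W', ?_, s'', ?_, ?_, ?_⟩
  · rw [hπw]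
    simp only [h, Category.assoc]
    rw [← hu, sq.w_assoc]
    simp only [w0, Category.assoc, pA]
  · refine Set.ext fun t => ⟨fun ht => ?_, fun ht => ?_⟩
    · have ht' : w0 (pullback.snd p g (h0 t)) = f x := by
        rw [← Scheme.Hom.comp_apply, ← Scheme.Hom.comp_apply, ← hπw]; exact ht
      have hW't : pullback.snd p g (h0 t) ∈ W' := by
        have := t.2
        exact this
      have e : pullback.snd p g (h0 t) = u0 :=
        (hN.le ⟨(hMsub (hW'M hW't)).1, ht'⟩ : _ ∈ ({u0} : Set U))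
      have e' : h0 t = v := huniq (h0 t) t.1.2 e
      exact h0.isOpenEmbedding.injective (e'.trans hs''v.symm)
    · rw [Set.mem_singleton_iff.1 ht]
      show (π ≫ w) s'' = f x
      rw [hπw, Scheme.Hom.comp_apply, hs''v, Scheme.Hom.comp_apply, hv2, hw0]
  · show (h0 ≫ a ≫ ι) s'' = x
    rw [Scheme.Hom.comp_apply, hs''v, Scheme.Hom.comp_apply, ha, hx0]
  · have h1 : IsIso (a.residueFieldMap (h0 s'')) := by
      rw [hs''v, Scheme.residueFieldMap_comp]
      haveI : IsIso ((pullback.fst p g).residueFieldMap v) := (ConcreteCategory.isIso_iff_bijective _).2 hres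
      haveI : IsIso ((pullback.fst u σ).residueFieldMap (pullback.fst p g v)) :=
        (ConcreteCategory.isIso_iff_bijective _).2 (bijective_residueFieldMap_of_isPreimmersion _ _)
      infer_instance
    show IsIso ((h0 ≫ a ≫ ι).residueFieldMap s'')
    rw [Scheme.residueFieldMap_comp, Scheme.residueFieldMap_comp]
    infer_instance

end Groth.L25.EGA145
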