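import Groth.Agent.L16.HomogComp.Basic
import Groth.Agent.L07.Equidim
import Groth.Agent.L19.Closure
import Groth.Agent.L25.Actions
import Groth.Prelude.Def_ActBC
import Mathlib.AlgebraicGeometry.Morphisms.Finite
import Mathlib.AlgebraicGeometry.Fiber

/-!
# Translating finitely many points into a dense open subset (SGA 3 VI_B 5.3)
-/

set_option autoImplicit false
set_option maxSynthPendingDepth 3
set_option linter.style.haveILetI false
set_option backward.isDefEq.respectTransparency.types false
set_option backward.isDefEq.respectTransparency false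

universe u

open CategoryTheory CategoryTheory.Limits MonoidalCategory CartesianMonoidalCategory MonObj GrpObj
open AlgebraicGeometry

noncomputable section

namespace Groth.L25.EGA145.Translate

open Groth.L22.GeomConn Groth.L25

variable {k : Type u} [Field k]

/-- A dense open subset of a locally Noetherian scheme contains all maximal points. -/
theorem mem_of_dense {X : Scheme.{u}} [IsLocallyNoetherian X] {U : Set X} (hU : IsOpen U) (hd : Dense U)
    {ξ : X} (hξ : IsMaxPt ξ) : ξ ∈ U := by
  obtain ⟨N, hN, hmax⟩ := Groth.L07.Equidim.exists_nhd_maximal ξ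
  obtain ⟨p, hpN, hpU⟩ := hd.inter_open_nonempty N N.2 ⟨ξ, hN⟩
  obtain ⟨p', hp', hpp⟩ := exists_isMaxPt_specializes p
  have h : p' ⤳ ξ := hmax p' (hpp.mem_open N.2 hpN) hp'
  exact hξ p' h ▸ hpp.mem_open hU hpU

/-- The base change of a closed point is finite. -/
theorem isFinite_closedPoint {X : Over (Spec (CommRingCat.of k))} [LocallyOfFiniteType X.hom] {p : X.left}
    (hp : IsClosed ({p} : Set X.left)) : IsFinite (X.left.fromSpecResidueField p ≫ X.hom) := by
  haveI : IsClosedImmersion (X.left.fromSpecResidueField p) := isClosed_singleton_iff_isClosedImmersion.1 hp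
  haveI : JacobsonSpace (Spec (CommRingCat.of k)) :=
    PrimeSpectrum.isJacobsonRing_iff_jacobsonSpace.mp inferInstance
  exact isFinite_iff_locallyOfFiniteType_of_jacobsonSpace.2 inferInstance

variable {G X : Over (Spec (CommRingCat.of k))} [GrpObj G] (a : AlgGrp.Action G X)

/-- Points over a closed point and the generic point of the neutral component are moved to maximal points. -/
theorem isMaxPt_act (hΦ : Surjective (lift a.act (snd G X)).left) [LocallyOfFiniteType X.hom] {C₀ : Set G.left}
    (hC₀ : C₀ ∈ irreducibleComponents ↥G.left) (he : Component.one G ∈ C₀) {p : X.left}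
    (hp : IsClosed ({p} : Set X.left)) {ξ : G.left} (hξ : IsMaxPt ξ) (hξC : ξ ∈ C₀)
    (z : (G ⊗ X).left) (h1 : (fst G X).left z = ξ) (h2 : (snd G X).left z = p) :
    IsMaxPt (a.act.left z) := by
  let I := Scheme.IdealSheafData.vanishingIdeal ⟨C₀, isClosed_of_mem_irreducibleComponents _ hC₀⟩
  have hr : Set.range I.subschemeι = C₀ := by
    simp [I, Scheme.IdealSheafData.range_subschemeι, Scheme.IdealSheafData.coe_support_vanishingIdeal,
      (isClosed_of_mem_irreducibleComponents _ hC₀).closure_eq]
  have hgi : GeometricallyIrreducible (I.subschemeι ≫ G.hom) :=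
    Component.geometricallyIrreducible_component G I.subschemeι (hr ▸ hC₀) (hr ▸ he)
  let P : Over (Spec (CommRingCat.of k)) := Over.mk (X.left.fromSpecResidueField p ≫ X.hom)
  haveI : IsFinite P.hom := isFinite_closedPoint hp
  let iP : P ⟶ X := Over.homMk (X.left.fromSpecResidueField p) rfl
  haveI : IsFinite (fst G P).left := MorphismProperty.pullback_fst G.hom P.hom inferInstance
  let q := pullback.snd (I.subschemeι ≫ G.hom) P.hom
  haveI : GeometricallyIrreducible q := MorphismProperty.pullback_snd _ _ hgi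
  haveI : UniversallyOpen q := MorphismProperty.pullback_snd _ _ inferInstance
  let j : pullback (I.subschemeι ≫ G.hom) P.hom ⟶ pullback G.hom P.hom :=
    pullback.map _ _ G.hom P.hom I.subschemeι (𝟙 _) (𝟙 _) (Category.comp_id _)
      ((Category.comp_id _).trans (Category.id_comp _).symm)
  have hj : Set.range j = (fst G P).left ⁻¹' C₀ := by
    have h := Scheme.Pullback.range_map (I.subschemeι ≫ G.hom) P.hom G.hom P.hom I.subschemeι (𝟙 _) (𝟙 _)
      (Category.comp_id _) ((Category.comp_id _).trans (Category.id_comp _).symm)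
    simpa [hr] using h
  obtain ⟨pt⟩ : Nonempty P.left := inferInstanceAs (Nonempty (PrimeSpectrum (X.left.residueField p)))
  have hFirr : IsIrreducible ((fst G P).left ⁻¹' C₀) := by
    have e : q ⁻¹' {pt} = Set.univ :=
      Set.eq_univ_of_forall fun _ => Subsingleton.elim (α := PrimeSpectrum (X.left.residueField p)) _ _
    have h := (q.isIrreducible_preimage q.isOpenMap (isIrreducible_singleton (x := pt))).image j
      j.continuous.continuousOn
    rwa [e, Set.image_univ, hj] at h
  -- every point over `p` comes from the fibre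
  have hlift : ∀ w : (G ⊗ X).left, (snd G X).left w = p →
      ∃ w' : (G ⊗ P).left, (G ◁ iP).left w' = w ∧ (fst G P).left w' = (fst G X).left w := fun w hw => by
    obtain ⟨w', hw', -⟩ := Scheme.exists_preimage_of_isPullback (Homogeneous.isPullback_whiskerLeft G iP) w pt
      (hw.trans (X.left.fromSpecResidueField_apply p pt).symm)
    refine ⟨w', hw', ?_⟩
    rw [← hw', ← Scheme.Hom.comp_apply, ← Over.comp_left, whiskerLeft_fst]
  obtain ⟨w, hw1, hw2, hwm⟩ := Groth.L16.HomogComp.exists_act_isMaxPt a hΦ hC₀ he p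
  obtain ⟨w', rfl, hw'⟩ := hlift w hw2
  obtain ⟨z', rfl, hz'⟩ := hlift z h2
  rw [h1] at hz'
  have hF : IsClosed ((fst G P).left ⁻¹' C₀) :=
    (isClosed_of_mem_irreducibleComponents _ hC₀).preimage (Scheme.Hom.continuous _)
  have hg := hFirr.isGenericPoint_genericPoint hF
  have hz : hFirr.genericPoint ⤳ z' := hg.specializes (show (fst G P).left z' ∈ C₀ from hz'.symm ▸ hξC)
  have e : hFirr.genericPoint = z' := by
    have e1 : (fst G P).left hFirr.genericPoint = ξ :=
      hξ _ (hz' ▸ hz.map (fst G P).left.continuous)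
    have hd := (fst G P).left.isDiscrete_preimage_singleton ξ
    obtain ⟨N, hN, hN'⟩ := isDiscrete_iff_forall_mem_exists_isOpen.1 hd z' hz'
    have : hFirr.genericPoint ∈ N ∩ (fst G P).left ⁻¹' {ξ} :=
      ⟨hz.mem_open hN ((hN'.ge rfl).1), e1⟩
    exact hN'.le this
  have hzw : z' ⤳ w' := e ▸ hg.specializes (show (fst G P).left w' ∈ C₀ from hw'.symm ▸ hw1)
  have := hwm _ ((hzw.map (G ◁ iP).left.continuous).map a.act.left.continuous)
  exact this.symm ▸ hwm

/-- A closed point of the neutral component translates a finite set of closed points into a dense open. -/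
theorem exists_closed_translate_closed (hΦ : Surjective (lift a.act (snd G X)).left) [LocallyOfFiniteType X.hom]
    [LocallyOfFiniteType G.hom] (U : X.left.Opens) (hU : Dense (U : Set X.left)) {C₀ : Set G.left}
    (hC₀ : C₀ ∈ irreducibleComponents ↥G.left) (he : Component.one G ∈ C₀) (A : Set X.left) (hA : A.Finite)
    (hAc : ∀ p ∈ A, IsClosed ({p} : Set X.left)) :
    ∃ g : G.left, g ∈ C₀ ∧ IsClosed ({g} : Set G.left) ∧
      ∀ z : (G ⊗ X).left, (fst G X).left z = g → (snd G X).left z ∈ A → a.act.left z ∈ U := by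
  haveI : IsLocallyNoetherian G.left := LocallyOfFiniteType.isLocallyNoetherian G.hom
  haveI : IsLocallyNoetherian X.left := LocallyOfFiniteType.isLocallyNoetherian X.hom
  haveI : JacobsonSpace (Spec (CommRingCat.of k)) :=
    PrimeSpectrum.isJacobsonRing_iff_jacobsonSpace.mp inferInstance
  haveI : JacobsonSpace G.left := LocallyOfFiniteType.jacobsonSpace G.hom
  let B : X.left → Set G.left := fun p =>
    (fst G X).left '' ((snd G X).left ⁻¹' {p} ∩ a.act.left ⁻¹' (U : Set X.left)ᶜ)
  have hB : ∀ p ∈ A, IsClosed (B p) := fun p hp => by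
    let P : Over (Spec (CommRingCat.of k)) := Over.mk (X.left.fromSpecResidueField p ≫ X.hom)
    haveI : IsFinite P.hom := isFinite_closedPoint (hAc p hp)
    let iP : P ⟶ X := Over.homMk (X.left.fromSpecResidueField p) rfl
    haveI : IsFinite (fst G P).left := MorphismProperty.pullback_fst G.hom P.hom inferInstance
    have e : B p = (fst G P).left '' ((G ◁ iP).left ⁻¹' (a.act.left ⁻¹' (U : Set X.left)ᶜ)) := by
      ext g
      constructor
      · rintro ⟨w, ⟨hw1, hw2⟩, rfl⟩
        obtain ⟨pt⟩ : Nonempty P.left := inferInstanceAs (Nonempty (PrimeSpectrum (X.left.residueField p)))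
        obtain ⟨w', hw', -⟩ := Scheme.exists_preimage_of_isPullback (Homogeneous.isPullback_whiskerLeft G iP) w pt
          (Eq.trans hw1 (X.left.fromSpecResidueField_apply p pt).symm)
        refine ⟨w', by rw [Set.mem_preimage, hw']; exact hw2, ?_⟩
        rw [← hw', ← Scheme.Hom.comp_apply, ← Over.comp_left, whiskerLeft_fst]
      · rintro ⟨w', hw', rfl⟩
        refine ⟨(G ◁ iP).left w', ⟨?_, hw'⟩, ?_⟩
        · show (snd G X).left ((G ◁ iP).left w') = p
          rw [← Scheme.Hom.comp_apply, ← Over.comp_left, whiskerLeft_snd]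
          exact X.left.fromSpecResidueField_apply p _
        · rw [← Scheme.Hom.comp_apply, ← Over.comp_left, whiskerLeft_fst]
    rw [e]
    exact (fst G P).left.isClosedMap _
      ((U.2.isClosed_compl.preimage (Scheme.Hom.continuous _)).preimage (Scheme.Hom.continuous _))
  let Bad : Set G.left := ⋃ p ∈ A, B p
  have hBad : IsClosed Bad := hA.isClosed_biUnion hB
  let ξ := hC₀.1.genericPoint
  have hξ : IsMaxPt ξ := isMaxPt_genericPoint _ hC₀
  have hξC : ξ ∈ C₀ :=
    (hC₀.1.isGenericPoint_genericPoint (isClosed_of_mem_irreducibleComponents _ hC₀)).mem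
  have hne : (C₀ ∩ Badᶜ).Nonempty := by
    refine ⟨ξ, hξC, fun h => ?_⟩
    obtain ⟨p, hp, w, ⟨hw1, hw2⟩, hw⟩ := Set.mem_iUnion₂.1 h
    exact hw2 (mem_of_dense U.2 hU (isMaxPt_act a hΦ hC₀ he (hAc p hp) hξ hξC w hw hw1))
  obtain ⟨g, ⟨hgC, hgB⟩, hg⟩ := nonempty_inter_closedPoints hne
    ((Component.isOpen_of_mem G hC₀).inter hBad.isOpen_compl).isLocallyClosed
  exact ⟨g, hgC, hg, fun z hz1 hz2 => by_contra fun h =>
    hgB (Set.mem_iUnion₂.2 ⟨_, hz2, z, ⟨rfl, h⟩, hz1⟩)⟩

/-- A closed point of the neutral component translates a finite set of points into a dense open. -/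
theorem exists_closed_translate (hΦ : Surjective (lift a.act (snd G X)).left) [LocallyOfFiniteType X.hom]
    [LocallyOfFiniteType G.hom] (U : X.left.Opens) (hU : Dense (U : Set X.left)) {C₀ : Set G.left}
    (hC₀ : C₀ ∈ irreducibleComponents ↥G.left) (he : Component.one G ∈ C₀) (A : Set X.left) (hA : A.Finite) :
    ∃ g : G.left, g ∈ C₀ ∧ IsClosed ({g} : Set G.left) ∧
      ∀ z : (G ⊗ X).left, (fst G X).left z = g → (snd G X).left z ∈ A → a.act.left z ∈ U := by
  haveI : JacobsonSpace (Spec (CommRingCat.of k)) :=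
    PrimeSpectrum.isJacobsonRing_iff_jacobsonSpace.mp inferInstance
  haveI : JacobsonSpace X.left := LocallyOfFiniteType.jacobsonSpace X.hom
  choose sp hsp using fun p : X.left => nonempty_inter_closedPoints
    (show (closure ({p} : Set X.left)).Nonempty from ⟨p, subset_closure rfl⟩) isClosed_closure.isLocallyClosed
  obtain ⟨g, hgC, hg, H⟩ := exists_closed_translate_closed a hΦ U hU hC₀ he (sp '' A) (hA.image _)
    (by rintro _ ⟨p, -, rfl⟩; exact (hsp p).2)
  refine ⟨g, hgC, hg, fun z hz1 hz2 => ?_⟩
  -- specialise `z` to a point over the closed point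
  let Q : Over (Spec (CommRingCat.of k)) := Over.mk (G.left.fromSpecResidueField g ≫ G.hom)
  haveI : IsFinite Q.hom := isFinite_closedPoint hg
  let iQ : Q ⟶ G := Over.homMk (G.left.fromSpecResidueField g) rfl
  haveI : IsFinite (snd Q X).left := MorphismProperty.pullback_snd Q.hom X.hom inferInstance
  obtain ⟨pt⟩ : Nonempty Q.left := inferInstanceAs (Nonempty (PrimeSpectrum (G.left.residueField g)))
  obtain ⟨z', hz', -⟩ := Scheme.exists_preimage_of_isPullback (Actions.isPullback_whiskerRight_left iQ X) z pt
    (hz1.trans (G.left.fromSpecResidueField_apply g pt).symm)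
  have hsnd : (snd Q X).left z' = (snd G X).left z := by
    rw [← hz', ← Scheme.Hom.comp_apply, ← Over.comp_left, whiskerRight_snd]
  obtain ⟨w', hw', hzw⟩ := (snd Q X).left.isClosedMap.specializingMap
    (specializes_iff_mem_closure.2 (show sp ((snd G X).left z) ∈ closure {(snd Q X).left z'} from hsnd.symm ▸ (hsp ((snd G X).left z)).1))
  have hw : a.act.left ((iQ ▷ X).left w') ∈ U := by
    refine H _ ?_ ?_
    · rw [← Scheme.Hom.comp_apply, ← Over.comp_left, whiskerRight_fst]
      exact G.left.fromSpecResidueField_apply g _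
    · rw [← Scheme.Hom.comp_apply, ← Over.comp_left, whiskerRight_snd, hzw]
      exact ⟨_, hz2, rfl⟩
  exact hz' ▸ (((hw'.map (iQ ▷ X).left.continuous).map a.act.left.continuous).mem_open U.2 hw)

end Groth.L25.EGA145.Translate
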